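import Cfsg.Agent.ChevGroup.Steinberg.Main
import Cfsg.Agent.Lib.ChevCore.TorusGroup

/-!
The torus of Steinberg's group as the image of `(Kˣ)^l`, and the centre as the image of the kernel of the
Cartan matrix.
-/

set_option autoImplicit false
set_option linter.unusedSectionVars false

namespace Cfsg.Agent.ChevGroup.Stb

open Cfsg.Lie Cfsg.Agent.ChevCore

variable {D : ChevalleyDatum} {K : Type*} [Field K] (hD : Cert D)

include hD

/-- The fundamental `h̄` commute. -/
theorem hb_commute {i j : ℕ} (hi : i < D.rank) (hj : j < D.rank) {a c : K} (ha : a ≠ 0) (hc : c ≠ 0) :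
    Commute (hb D K (D.simple j) c) (hb D K (D.simple i) a) := by
  have hG := good hD
  have hp := hG.simple_lt hi
  set e := c ^ D.cartan j (D.simple i)
  have he : e ≠ 0 := zpow_ne_zero _ hc
  have hn : ∀ x : K, hb D K (D.simple j) c * nb D K (D.simple i) x * (hb D K (D.simple j) c)⁻¹ =
      nb D K (D.simple i) (e * x) := by
    intro x
    have h1 := hb_simple_scales hD hj hp hc
    have h2 := hb_simple_scales hD hj (hG.neg_lt hp) hc
    simp only [nb]
    rw [show ∀ (g u v : D.SteinbergGroup K), g * (u * v * u) * g⁻¹ =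
      (g * u * g⁻¹) * (g * v * g⁻¹) * (g * u * g⁻¹) from fun g u v => by group, h1, h2,
      hG.cartan_neg hp hj]
    simp only [e, zpow_neg, mul_inv, mul_neg]
  have h : hb D K (D.simple j) c * hb D K (D.simple i) a * (hb D K (D.simple j) c)⁻¹ =
      hb D K (D.simple i) a := by
    calc hb D K (D.simple j) c * hb D K (D.simple i) a * (hb D K (D.simple j) c)⁻¹
        = (hb D K (D.simple j) c * nb D K (D.simple i) a * (hb D K (D.simple j) c)⁻¹) *
          (hb D K (D.simple j) c * nb D K (D.simple i) (-1) * (hb D K (D.simple j) c)⁻¹) := by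
          rw [show hb D K (D.simple i) a = nb D K (D.simple i) a * nb D K (D.simple i) (-1) from rfl]
          group
      _ = hb D K (D.simple i) (e * a) * (hb D K (D.simple i) e)⁻¹ := by
          rw [hn, hn, mul_neg_one, ← nb_inv, hb, hb]; group
      _ = hb D K (D.simple i) a := by
          rw [mul_comm e a, ← hb_mul hp ha he]; group
  exact mul_inv_eq_iff_eq_mul.1 h

/-- `c ↦ h̄_{p}(c)` for a fundamental root. -/
def hbHom (i : Fin D.rank) : Kˣ →* D.SteinbergGroup K where
  toFun c := hb D K (D.simple i.val) (c : K)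
  map_one' := by rw [Units.val_one, hb_one]
  map_mul' c c' := by rw [Units.val_mul, hb_mul ((good hD).simple_lt i.isLt) c.ne_zero c'.ne_zero]

/-- The torus map onto `H̄`. -/
noncomputable def psi : (Fin D.rank → Kˣ) →* D.SteinbergGroup K :=
  MonoidHom.noncommPiCoprod (hbHom hD) fun i j _ x y => hb_commute hD j.isLt i.isLt y.ne_zero x.ne_zero

theorem psi_single (i : Fin D.rank) (c : Kˣ) :
    psi hD (Pi.mulSingle i c) = hb D K (D.simple i.val) (c : K) := by
  exact MonoidHom.noncommPiCoprod_mulSingle (hbHom hD) i c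

theorem psi_eq_prod (c : Fin D.rank → Kˣ) :
    psi hD c = (List.ofFn fun i : Fin D.rank => hb D K (D.simple i.val) (c i : K)).prod := by
  conv_lhs => rw [← Finset.univ_prod_mulSingle c, ← List.prod_ofFn, map_list_prod, List.map_ofFn]
  congr 2
  funext i
  exact psi_single hD i (c i)

theorem Hb_le_range {g : D.SteinbergGroup K} (hg : g ∈ Hb D K) : g ∈ (psi (K := K) hD).range := by
  refine (Subgroup.closure_le _).2 ?_ hg
  rintro _ ⟨i, t, hi, ht', rfl⟩
  exact ⟨Pi.mulSingle ⟨i, hi⟩ (Units.mk0 t ht'), psi_single hD ⟨i, hi⟩ _⟩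

theorem thG_psi (c : Fin D.rank → Kˣ) : thG hD.toUGood.toCommGood (psi hD c) = tau D K c := by
  rw [psi_eq_prod, (good hD).tau_eq_prod, map_list_prod, List.map_ofFn]
  congr 2
  funext i
  exact thG_hb _ _ _

variable (T : Model D) {wit : List (List (Fin T.tab.l) × Fin T.tab.l)} (hwit : T.witB wit = true)
  {w0 : List (Fin T.tab.l)} (hw0 : T.longestB w0 = true)

include T hwit hw0

/-- The centre is the image of the kernel of the Cartan matrix. -/
theorem center_eq_map :
    Subgroup.center (D.SteinbergGroup K) = (mpow (M := Kˣ) (cartanT D)).ker.map (psi hD) := by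
  rw [← ker_eq_center T hD hD.toUGood.toCommGood hwit hw0, ← (good hD).ker_tau]
  ext g
  rw [MonoidHom.mem_ker, th_eq_one]
  constructor
  · intro h
    obtain ⟨c, rfl⟩ := Hb_le_range hD (ker_le_Hb T hD hD.toUGood.toCommGood hwit ((th_eq_one _).2 h))
    exact ⟨c, by rw [SetLike.mem_coe, MonoidHom.mem_ker, ← thG_psi hD]; exact h, rfl⟩
  · rintro ⟨c, hc, rfl⟩
    rw [thG_psi hD]
    exact hc

/-- A unimodular Cartan matrix gives a trivial centre. -/
theorem center_eq_bot {M : Matrix (Fin D.rank) (Fin D.rank) ℤ} (hM : M * cartanT D = 1) :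
    Subgroup.center (D.SteinbergGroup K) = ⊥ := by
  rw [center_eq_map hD T hwit hw0, show (mpow (M := Kˣ) (cartanT D)).ker = ⊥ from ?_, Subgroup.map_bot]
  rw [eq_bot_iff]
  intro c hc
  rw [Subgroup.mem_bot, ← mpow_one c, ← hM, mpow_mul, hc, map_one]

/-- The order of the centre when `psi` is injective. -/
theorem card_center [Fintype K] {U U' V V' : Matrix (Fin D.rank) (Fin D.rank) ℤ} {d : Fin D.rank → ℕ}
    (hU : U' * U = 1) (hV : V * V' = 1) (hV' : V' * V = 1)
    (h : U * cartanT D * V = Matrix.diagonal fun i => (d i : ℤ))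
    (hinj : Function.Injective (psi (K := K) hD)) :
    Nat.card (Subgroup.center (D.SteinbergGroup K)) = ∏ i, (Fintype.card K - 1).gcd (d i) := by
  classical
  rw [center_eq_map hD T hwit hw0, Subgroup.card_map_of_injective hinj, card_ker_mpow hU hV hV' h,
    Nat.card_eq_fintype_card, Fintype.card_units]

end Cfsg.Agent.ChevGroup.Stb
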